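import Groth.Agent.BertiniSec.Field
import Groth.Agent.BertiniSec.Chart
import Groth.Agent.Hyperplane.Basic
import Groth.Agent.H23.PnChart
import Groth.Agent.ModPairLib.Basic

/-!
# Smooth hyperplane sections over an infinite field
-/

noncomputable section

set_option autoImplicit false
set_option linter.style.haveILetI false
set_option backward.isDefEq.respectTransparency false
set_option backward.isDefEq.respectTransparency.types false

universe u

open CategoryTheory CategoryTheory.Limits AlgebraicGeometry TopologicalSpace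
open HomogeneousLocalization (Away)

namespace Groth.Agent.HyperSmooth

open Groth.Agent

variable (k : Type u) [Field k] (n : ℕ)

local notation "𝒜" => CohB1.polyGrading n k
local notation "T" => (MvPolynomial.X : Fin (n + 1) → MvPolynomial (Fin (n + 1)) k)

variable {k n} in
theorem linear_mem (c : Fin (n + 1) → k) : ∑ i, MvPolynomial.C (c i) * T i ∈ 𝒜 1 :=
  MvPolynomial.IsHomogeneous.sum _ _ _ fun i _ => (MvPolynomial.isHomogeneous_X k i).C_mul _

theorem mk_eq_dehom (j : Fin (n + 1)) {a : MvPolynomial (Fin (n + 1)) k} (ha : a ∈ 𝒜 1) :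
    Away.mk 𝒜 (ZetaLib.X_mem_one n k j) 1 a (by rwa [one_smul]) = ZetaLib.dehom n k j a := by
  refine HomogeneousLocalization.val_injective _ ?_
  have hu : IsUnit (algebraMap (MvPolynomial (Fin (n + 1)) k)
      (Localization (Submonoid.powers (T j))) (T j) ^ 1) :=
    (IsLocalization.map_units _ (⟨T j, 1, pow_one _⟩ : Submonoid.powers (T j))).pow 1
  refine hu.mul_left_injective ?_
  show _ * _ = _ * _
  rw [ZetaLib.val_dehom_mul n k j (ha : a.IsHomogeneous 1),
    HomogeneousLocalization.Away.val_mk, ← map_pow, ← Localization.mk_one_eq_algebraMap,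
    ← Localization.mk_one_eq_algebraMap, Localization.mk_mul, Localization.mk_eq_mk_iff,
    Localization.r_iff_exists]
  exact ⟨1, by simp [mul_comm]⟩

theorem dehom_linear (j : Fin (n + 1)) (c : Fin (n + 1) → k) :
    ZetaLib.dehom n k j (∑ i, MvPolynomial.C (c i) * T i) =
      ∑ i, ZetaLib.base n k j (c i) * ZetaLib.coord n k j i := by
  simp [ZetaLib.dehom, map_sum, map_mul]

/-- The ideal of a hyperplane on a chart. -/
theorem ideal_hyperplane (c : Fin (n + 1) → k) (ha : ∑ i, MvPolynomial.C (c i) * T i ∈ 𝒜 1) (j : Fin (n + 1)) :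
    (PicF2.zeroScheme (Twist.twistProjSpace n k 1) (InvX.ofSect (ProjUPX.sec 𝒜 ha))).ideal
        ⟨Proj.basicOpen 𝒜 (T j), Proj.isAffineOpen_basicOpen 𝒜 (T j) (MvPolynomial.isHomogeneous_X k j) one_pos⟩ =
      Ideal.span {(Proj.awayToSection 𝒜 (T j)).hom
        (Away.mk 𝒜 (ZetaLib.X_mem_one n k j) 1 _ (by rwa [one_smul]))} := by
  have hL : PicF.IsInvertible (Twist.twistProjSpace n k 1) :=
    PnCoh.Finite.isInvertible_twist (fun i : ULift.{u} (Fin (n + 1)) => (T i.down))
      (fun i => MvPolynomial.isHomogeneous_X k i.down) (eq_top_iff.2 fun y _ => Opens.mem_iSup.2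
        ((ProjUPX.cov_X y).imp' ULift.up fun _ h => h)) 1
  set s := InvX.ofSect (ProjUPX.sec 𝒜 ha) with hs
  have h1 : InvX.one s = ProjUPX.sec 𝒜 ha := InvX.one_ofSect _
  have hsec : ZeroSchX.sv s (Proj.basicOpen 𝒜 (T j)) =
      (Proj.awayToSection 𝒜 (T j)).hom (Away.mk 𝒜 (ZetaLib.X_mem_one n k j) 1 _ (by rwa [one_smul])) •
        AModX.res (Twist.twist 𝒜 1) (le_top : Proj.basicOpen 𝒜 (T j) ≤ ⊤) (ProjUPX.sec 𝒜 (ZetaLib.X_mem_one n k j)) := by
    rw [← ProjUPX.sec_eq_smul 𝒜 ha (ZetaLib.X_mem_one n k j), ← h1]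
    exact (ZeroSchX.res_sv s (le_top : Proj.basicOpen 𝒜 (T j) ≤ ⊤)).symm
  exact (ZeroSchX.ideal_zeroScheme hL s _).trans
    (ZeroSchX.zeroIdealOn_eq_span s (ProjUPX.isFrame_sec 𝒜 (ZetaLib.X_mem_one n k j)) hsec)

theorem mem_basicOpen_awayToSection (c : Fin (n + 1) → k) (ha : ∑ i, MvPolynomial.C (c i) * T i ∈ 𝒜 1)
    (j : Fin (n + 1)) {P : CohB1.ProjSpace n k} (hP : P ∈ Proj.basicOpen 𝒜 (T j)) :
    P ∈ (CohB1.ProjSpace n k).basicOpen ((Proj.awayToSection 𝒜 (T j)).hom
        (Away.mk 𝒜 (ZetaLib.X_mem_one n k j) 1 _ (by rwa [one_smul]))) ↔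
      (∑ i, MvPolynomial.C (c i) * T i) ∉ P.asHomogeneousIdeal.toIdeal := by
  refine (Scheme.mem_basicOpen _ _ _ hP).trans ?_
  have h := congr($(ProjectiveSpectrum.Proj.awayToSection_germ 𝒜 (T j) P hP)
    (Away.mk 𝒜 (ZetaLib.X_mem_one n k j) 1 _ (by rwa [one_smul])))
  refine Iff.trans (iff_of_eq (congrArg IsUnit h)) ?_
  show IsUnit ((Proj.stalkIso' 𝒜 P).symm ((HomogeneousLocalization.mapId 𝒜 (Submonoid.powers_le.2 hP))
    (Away.mk 𝒜 (ZetaLib.X_mem_one n k j) 1 _ _))) ↔ _
  rw [isUnit_map_iff, ← HomogeneousLocalization.isUnit_iff_isUnit_val, HomogeneousLocalization.Away.mk,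
    HomogeneousLocalization.mapId, HomogeneousLocalization.map_mk, HomogeneousLocalization.val_mk,
    Localization.mk_eq_mk', IsLocalization.AtPrime.isUnit_mk'_iff]
  exact Iff.rfl

variable {k n} in
theorem awayι_fromSpec (j : Fin (n + 1)) (hV : IsAffineOpen (Proj.basicOpen 𝒜 (T j))) :
    Spec.map (Proj.awayToSection 𝒜 (T j)) ≫ ZetaLib.chart n k j = hV.fromSpec := by
  rw [← cancel_epi hV.isoSpec.hom, hV.isoSpec_hom_fromSpec, IsAffineOpen.isoSpec_hom, ← Category.assoc]
  show Proj.basicOpenToSpec 𝒜 (T j) ≫ (Proj.basicOpenIsoSpec 𝒜 (T j) (MvPolynomial.isHomogeneous_X k j) Nat.one_pos).inv ≫ _ = _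
  rw [← Proj.basicOpenIsoSpec_hom 𝒜 (T j) (MvPolynomial.isHomogeneous_X k j) Nat.one_pos, Iso.hom_inv_id_assoc]

variable {k n} in
/-- A homogeneous prime not containing some variable misses the linear forms off a proper subspace. -/
theorem exists_not_mem (P : Ideal (MvPolynomial (Fin (n + 1)) k)) (i : Fin (n + 1)) (hi : T i ∉ P) :
    ∃ g : MvPolynomial (Fin (n + 1)) k, g ≠ 0 ∧ ∀ a : Fin (n + 1) → k,
      MvPolynomial.eval a g ≠ 0 → ∑ l, MvPolynomial.C (a l) * T l ∉ P := by
  classical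
  let L : (Fin (n + 1) → k) →ₗ[k] MvPolynomial (Fin (n + 1)) k ⧸ P :=
    ∑ l, (LinearMap.proj l : (Fin (n + 1) → k) →ₗ[k] k).smulRight (Ideal.Quotient.mk P (T l))
  have hL : ∀ a, L a = Ideal.Quotient.mk P (∑ l, MvPolynomial.C (a l) * T l) := by
    intro a
    simp only [L, LinearMap.sum_apply, LinearMap.smulRight_apply, LinearMap.proj_apply, map_sum]
    refine Finset.sum_congr rfl fun l _ => ?_
    rw [← MvPolynomial.smul_eq_C_mul]
    rfl
  let e : Fin (n + 1) → k := Pi.single i 1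
  have he : L e ≠ 0 := by
    rw [hL, Ne, Ideal.Quotient.eq_zero_iff_mem]
    convert hi using 2
    rw [Finset.sum_eq_single i (fun l _ hl => by simp [e, Pi.single_eq_of_ne hl]) (by simp)]
    simp [e]
  obtain ⟨f, hf0, hf⟩ := Submodule.exists_le_ker_of_lt_top (LinearMap.ker L)
    (lt_top_iff_ne_top.2 fun h => he (LinearMap.mem_ker.1 (h ▸ Submodule.mem_top)))
  let g : MvPolynomial (Fin (n + 1)) k := ∑ l, MvPolynomial.C (f (Pi.single l 1)) * T l
  have hg : ∀ a, MvPolynomial.eval a g = f a := by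
    intro a
    conv_rhs => rw [pi_eq_sum_univ' a]
    simp only [g, map_sum, map_mul, MvPolynomial.eval_C, MvPolynomial.eval_X, map_smul, smul_eq_mul]
    exact Finset.sum_congr rfl fun l _ => mul_comm _ _
  refine ⟨g, fun h0 => hf0 (LinearMap.ext fun a => ?_), fun a ha hmem => ha ?_⟩
  · rw [← hg a, h0, map_zero]; rfl
  · rw [hg]
    refine LinearMap.mem_ker.1 (hf (LinearMap.mem_ker.2 ?_))
    rw [hL, Ideal.Quotient.eq_zero_iff_mem]
    exact hmem


variable (X : Scheme.{u}) (ι : X ⟶ CohB1.ProjSpace n k)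

/-- The coordinates pulled back to an open over a chart. -/
def pullCoord (j : Fin (n + 1)) (U : X.Opens) (hle : U ≤ ι ⁻¹ᵁ Proj.basicOpen 𝒜 (T j)) (i : Fin (n + 1)) : Γ(X, U) :=
  (ι.appLE _ U hle).hom ((Proj.awayToSection 𝒜 (T j)).hom (ZetaLib.coord n k j i))

variable [X.Over (Spec (CommRingCat.of k))] (hι : ι ≫ CohB1.ProjSpace.toSpec n k = X ↘ Spec (CommRingCat.of k))

include hι in
theorem appLE_base (j : Fin (n + 1)) (U : X.Opens) (hle : U ≤ ι ⁻¹ᵁ Proj.basicOpen 𝒜 (T j)) (c : k) :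
    (ι.appLE _ U hle).hom ((Proj.awayToSection 𝒜 (T j)).hom (ZetaLib.base n k j c)) = BertiniSec.secHom k U c := by
  let V := Proj.basicOpen 𝒜 (T j)
  let f := CohB1.ProjSpace.toSpec n k
  let e := ((Scheme.ΓSpecIso (CommRingCat.of k)).inv).hom
  have h1 : (Proj.awayToSection 𝒜 (T j)).hom (ZetaLib.base n k j c) = (f.appLE ⊤ V le_top).hom (e c) := by
    have h := congrArg (fun φ => φ.appLE ⊤ ⊤ le_top) (ZetaLib.chart_toSpec (n := n) (k := k) j)
    have hV : IsAffineOpen V := Proj.isAffineOpen_basicOpen 𝒜 (T j) (MvPolynomial.isHomogeneous_X k j) one_pos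
    haveI : IsIso (Proj.awayToSection 𝒜 (T j)) :=
      (Proj.basicOpenIsoAway 𝒜 (T j) (MvPolynomial.isHomogeneous_X k j) one_pos).isIso_hom
    have hc : ZetaLib.chart n k j = Spec.map (inv (Proj.awayToSection 𝒜 (T j))) ≫ hV.fromSpec := by
      rw [← cancel_epi (Spec.map (Proj.awayToSection 𝒜 (T j))), ← Spec.map_comp_assoc, IsIso.inv_hom_id, Spec.map_id,
        Category.id_comp]
      exact awayι_fromSpec j hV
    have h2 : hV.fromSpec ≫ f = Spec.map (CommRingCat.ofHom ((f.appLE ⊤ V le_top).hom.comp e)) := by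
      rw [← IsAffineOpen.SpecMap_appLE_fromSpec f (isAffineOpen_top _) hV le_top, IsAffineOpen.fromSpec_top,
        Scheme.isoSpec_Spec_inv, ← Spec.map_comp]
      rfl
    have h3 := ZetaLib.chart_toSpec (n := n) (k := k) j
    rw [hc, Category.assoc, h2, ← Spec.map_comp] at h3
    have h4 := congrArg (fun φ => φ ≫ Proj.awayToSection 𝒜 (T j)) (Spec.map_injective h3)
    simp only [Category.assoc, IsIso.inv_hom_id, Category.comp_id] at h4
    exact (DFunLike.congr_fun (congrArg CommRingCat.Hom.hom h4) c).symm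
  rw [h1, BertiniSec.secHom, RingHom.comp_apply, ← CommRingCat.comp_apply, Scheme.Hom.appLE_comp_appLE]
  simp only [f, hι]
  rfl

include hι in
/-- Around every point a basic open of a chart with a polynomial detecting the bad hyperplanes. -/
theorem exists_good_chart [IsClosedImmersion ι] [Smooth (X ↘ Spec (CommRingCat.of k))] (x : X) :
    ∃ (j : Fin (n + 1)) (U : X.Opens) (_ : IsAffineOpen U) (hle : U ≤ ι ⁻¹ᵁ Proj.basicOpen 𝒜 (T j)) (_ : x ∈ U)
      (q : MvPolynomial (Fin (n + 1)) k), q ≠ 0 ∧ ∀ c : Fin (n + 1) → k, MvPolynomial.eval c q ≠ 0 →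
        letI := (BertiniSec.secHom k U).toAlgebra
        Algebra.Smooth k Γ(X, U) ∧ BertiniSec.Good k (∑ i, BertiniSec.secHom k U (c i) * pullCoord k n X ι j U hle i) := by
  classical
  obtain ⟨j, hj⟩ := ProjUPX.cov_X (n := n) (R := k) (ι x)
  let V := Proj.basicOpen 𝒜 (T j)
  have hV : IsAffineOpen V := Proj.isAffineOpen_basicOpen 𝒜 (T j) (MvPolynomial.isHomogeneous_X k j) one_pos
  let W : X.Opens := ι ⁻¹ᵁ V
  have hW : IsAffineOpen W := hV.preimage ι
  obtain ⟨U₀, hU₀, hxU₀, hs₀⟩ := BertiniSec.isStandardSmooth_secHom k (Y := X) x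
  obtain ⟨f, g, hfg, hxf⟩ := exists_basicOpen_le_affine_inter hW hU₀ x ⟨hj, hxU₀⟩
  let U : X.Opens := X.basicOpen f
  have hle : U ≤ W := X.basicOpen_le f
  letI := (BertiniSec.secHom k U).toAlgebra
  letI := (BertiniSec.secHom k W).toAlgebra
  letI := (BertiniSec.secHom k U₀).toAlgebra
  haveI hstd : Algebra.IsStandardSmooth k Γ(X, U) := by
    have hle₀ : U ≤ U₀ := hfg.le.trans (X.basicOpen_le g)
    letI : Algebra Γ(X, U₀) Γ(X, U) := (X.presheaf.map (homOfLE hle₀).op).hom.toAlgebra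
    haveI : IsScalarTower k Γ(X, U₀) Γ(X, U) := IsScalarTower.of_algebraMap_eq fun c => by
      show BertiniSec.secHom k U c = X.presheaf.map (homOfLE hle₀).op (BertiniSec.secHom k U₀ c)
      rw [BertiniSec.secHom, BertiniSec.secHom, RingHom.comp_apply, RingHom.comp_apply,
        ← Scheme.Hom.appLE_map _ le_top (homOfLE hle₀).op]
      rfl
    haveI : IsLocalization.Away g Γ(X, U) := hU₀.isLocalization_of_eq_basicOpen g (homOfLE hle₀) hfg
    haveI : Algebra.IsStandardSmooth k Γ(X, U₀) := hs₀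
    haveI := Algebra.IsStandardSmooth.localization_away (R := Γ(X, U₀)) (S := Γ(X, U)) g
    exact Algebra.IsStandardSmooth.trans k Γ(X, U₀) Γ(X, U)
  letI : Algebra Γ(X, W) Γ(X, U) := (X.presheaf.map (homOfLE hle).op).hom.toAlgebra
  haveI : IsScalarTower k Γ(X, W) Γ(X, U) := IsScalarTower.of_algebraMap_eq fun c => by
    show BertiniSec.secHom k U c = X.presheaf.map (homOfLE hle).op (BertiniSec.secHom k W c)
    rw [BertiniSec.secHom, BertiniSec.secHom, RingHom.comp_apply, RingHom.comp_apply,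
      ← Scheme.Hom.appLE_map _ le_top (homOfLE hle).op]
    rfl
  haveI : IsLocalization.Away f Γ(X, U) := hW.isLocalization_of_eq_basicOpen f (homOfLE hle) rfl
  let xW : Fin (n + 1) → Γ(X, W) := pullCoord k n X ι j W le_rfl
  have hsurj : Function.Surjective (MvPolynomial.aeval xW : MvPolynomial (Fin (n + 1)) k →ₐ[k] Γ(X, W)) := by
    intro z
    haveI : IsIso (Proj.awayToSection 𝒜 (T j)) :=
      (Proj.basicOpenIsoAway 𝒜 (T j) (MvPolynomial.isHomogeneous_X k j) one_pos).isIso_hom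
    have hs : Function.Surjective (ι.appLE V W le_rfl).hom := by
      rw [← Scheme.Hom.app_eq_appLE]
      exact ι.app_surjective V hV
    obtain ⟨y, rfl⟩ := hs z
    obtain ⟨y, rfl⟩ := (ConcreteCategory.bijective_of_isIso (Proj.awayToSection 𝒜 (T j))).2 y
    obtain ⟨p, rfl⟩ := ZetaLib.surjective_dehom n k j y
    refine ⟨p, ?_⟩
    have : (MvPolynomial.aeval xW : MvPolynomial (Fin (n + 1)) k →ₐ[k] Γ(X, W)).toRingHom =
        ((ι.appLE V W le_rfl).hom.comp (Proj.awayToSection 𝒜 (T j)).hom).comp (ZetaLib.dehom n k j) := by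
      refine MvPolynomial.ringHom_ext (fun c => ?_) fun i => ?_
      · simp only [AlgHom.toRingHom_eq_coe, RingHom.coe_coe, MvPolynomial.aeval_C, RingHom.comp_apply,
          ZetaLib.dehom, MvPolynomial.eval₂Hom_C]
        exact (appLE_base k n X ι hι j W le_rfl c).symm
      · simp only [AlgHom.toRingHom_eq_coe, RingHom.coe_coe, MvPolynomial.aeval_X, RingHom.comp_apply,
          ZetaLib.dehom, MvPolynomial.eval₂Hom_X']
        rfl
    exact DFunLike.congr_fun this p
  have hone : xW j = 1 := by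
    show (ι.appLE _ W le_rfl).hom ((Proj.awayToSection 𝒜 (T j)).hom (ZetaLib.coord n k j j)) = 1
    rw [H23.PnChart.coord_self, map_one, map_one]
  have hspan := BertiniSec.span_pairs_eq_top (k := k) (B := Γ(X, U)) (Submonoid.powers f) xW hsurj j hone
  obtain ⟨q, hq0, hq⟩ := BertiniSec.exists_poly_span (k := k) _ hspan
  refine ⟨j, U, hW.basicOpen f, hle, hxf, q, hq0, fun c hc => ⟨inferInstance, ?_⟩⟩
  have hres : ∀ i, algebraMap Γ(X, W) Γ(X, U) (xW i) = pullCoord k n X ι j U hle i := fun i => by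
    show ((ι.appLE _ W le_rfl) ≫ X.presheaf.map (homOfLE hle).op).hom _ = _
    rw [Scheme.Hom.appLE_map]
    rfl
  have hg := hq c hc
  simp only [hres] at hg
  exact hg

include hι in
/-- Goodness on charts makes the hyperplane section smooth. -/
theorem smooth_comap [IsClosedImmersion ι] (c : Fin (n + 1) → k) (ha : ∑ i, MvPolynomial.C (c i) * T i ∈ 𝒜 1)
    (h : ∀ x : X, ∃ (j : Fin (n + 1)) (U : X.Opens) (_ : IsAffineOpen U)
      (hle : U ≤ ι ⁻¹ᵁ Proj.basicOpen 𝒜 (T j)) (_ : x ∈ U),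
      letI := (BertiniSec.secHom k U).toAlgebra
      Algebra.Smooth k Γ(X, U) ∧ BertiniSec.Good k (∑ i, BertiniSec.secHom k U (c i) * pullCoord k n X ι j U hle i)) :
    Smooth (((PicF2.zeroScheme (Twist.twistProjSpace n k 1) (InvX.ofSect (ProjUPX.sec 𝒜 ha))).comap ι).subschemeι ≫
      (X ↘ Spec (CommRingCat.of k))) := by
  choose j U hU hle hxU hsm hg using h
  let J := PicF2.zeroScheme (Twist.twistProjSpace n k 1) (InvX.ofSect (ProjUPX.sec 𝒜 ha))
  let I := J.comap ι
  let W : I.subscheme → I.subscheme.Opens := fun z => (I.subschemeCover.f ⟨U (I.subschemeι z), hU _⟩).opensRange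
  refine IsZariskiLocalAtSource.of_iSup_eq_top W (eq_top_iff.2 fun z _ => Opens.mem_iSup.2 ⟨z, ?_⟩) fun z => ?_
  · show z ∈ (I.subschemeCover.f _).opensRange
    rw [Scheme.IdealSheafData.opensRange_subschemeCover_map]
    exact hxU _
  set V : X.affineOpens := ⟨U (I.subschemeι z), hU _⟩
  rw [show (W z).ι = (I.subschemeCover.f V).isoOpensRange.inv ≫ I.subschemeCover.f V from
    (Iso.eq_inv_comp _).2 (Scheme.Hom.isoOpensRange_hom_ι _), Category.assoc,
    MorphismProperty.cancel_left_of_respectsIso (P := @Smooth),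
    ← Category.assoc, Scheme.IdealSheafData.subschemeCover_map_subschemeι,
    Scheme.IdealSheafData.glueDataObjι_ι, Category.assoc, BertiniSec.fromSpec_over, ← Spec.map_comp,
    ← CommRingCat.ofHom_comp, HasRingHomProperty.Spec_iff (P := @Smooth), CommRingCat.hom_ofHom]
  set j' := j (I.subschemeι z)
  have hI : I.ideal V = Ideal.span
      {∑ i, BertiniSec.secHom k V.1 (c i) * pullCoord k n X ι j' V.1 (hle _) i} := by
    refine (ModPairLib.ideal_comap J ι
      ⟨_, Proj.isAffineOpen_basicOpen 𝒜 (T j') (MvPolynomial.isHomogeneous_X k j') one_pos⟩ V (hle _)).trans ?_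
    rw [show J = PicF2.zeroScheme (Twist.twistProjSpace n k 1) (InvX.ofSect (ProjUPX.sec 𝒜 ha)) from rfl,
      ideal_hyperplane k n c ha j', Ideal.map_span, Set.image_singleton, mk_eq_dehom, dehom_linear]
    case ha => exact ha
    simp only [map_sum, map_mul]
    congr 2
    exact Finset.sum_congr rfl fun i _ => congrArg (· * _) (appLE_base k n X ι hι j' V.1 (hle _) (c i))
  letI := (BertiniSec.secHom k V.1).toAlgebra
  haveI : Algebra.Smooth k Γ(X, V.1) := hsm _
  rw [hI]
  haveI := BertiniSec.smooth_quotient (hg (I.subschemeι z))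
  exact RingHom.smooth_algebraMap.2 ‹Algebra.Smooth k
    (Γ(X, V.1) ⧸ Ideal.span {∑ i, BertiniSec.secHom k V.1 (c i) * pullCoord k n X ι j' V.1 (hle _) i})›

end Groth.Agent.HyperSmooth
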